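import Cfsg.Agent.Wr3.SuB

/-! `Suz.2`: outer involutions centralise roots of conjugates of `u`. -/

set_option autoImplicit false
set_option maxRecDepth 100000

namespace Cfsg.Agent.EvS

open Cfsg.Agent.Comp Cfsg.Agent.Wr3.Sz

def lo : List (ℕ × ℕ × ℕ) :=
  [(0, 0, 0), (312, 81, 0), (408, 18, 0), (440, 66, 0), (1152, 5, 0), (1304, 9, 0), (1568, 72, 0), (1696, 80, 0),
  (2048, 7, 0), (2360, 64, 0), (2456, 12, 0), (2488, 73, 0), (3200, 2, 0), (3352, 23, 0), (3616, 67, 0), (3744, 65, 0),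
  (4096, 6, 0), (4408, 83, 0), (4504, 13, 0), (4536, 70, 0), (5248, 3, 0), (5400, 22, 0), (5664, 74, 0), (5792, 82, 0),
  (6144, 1, 0), (6456, 68, 0), (6552, 19, 0), (6584, 75, 0), (7296, 4, 0), (7448, 8, 0), (7712, 71, 0), (7840, 69, 0),
  (29, 0, 29), (49, 583, 29), (53, 577, 29), (129, 143, 29), (177, 598, 29), (181, 76, 29), (281, 7, 29), (301, 97, 29),
  (389, 13, 29), (429, 249, 29), (561, 98, 29), (641, 58, 29), (669, 48, 29), (689, 122, 29), (773, 60, 29), (793, 51, 29),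
  (1025, 139, 29), (1181, 132, 29), (1285, 8, 29), (1321, 114, 29), (1433, 131, 29), (1449, 234, 29), (1537, 63, 29), (1565, 52, 29),
  (1589, 233, 29), (1717, 224, 29), (1833, 599, 29), (1837, 589, 29), (1925, 36, 29), (1945, 55, 29), (1961, 578, 29), (1965, 576, 29),
  (2077, 129, 29), (2097, 579, 29), (2101, 65, 29), (2177, 15, 29), (2225, 594, 29), (2229, 588, 29), (2329, 135, 29), (2349, 240, 29),
  (2437, 140, 29), (2477, 104, 29), (2609, 226, 29), (2689, 59, 29), (2717, 44, 29), (2737, 250, 29), (2821, 32, 29), (2841, 50, 29),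
  (3073, 11, 29), (3229, 5, 29), (3333, 137, 29), (3369, 242, 29), (3481, 3, 29), (3497, 106, 29), (3585, 62, 29), (3613, 40, 29),
  (3637, 120, 29), (3765, 113, 29), (3881, 595, 29), (3885, 77, 29), (3973, 56, 29), (3993, 54, 29), (4009, 582, 29), (4013, 64, 29),
  (4125, 1, 29), (4145, 67, 29), (4149, 69, 29), (4225, 142, 29), (4273, 82, 29), (4277, 584, 29), (4377, 6, 29), (4397, 112, 29),
  (4485, 12, 29), (4525, 232, 29), (4657, 235, 29), (4737, 39, 29), (4765, 172, 29), (4785, 243, 29), (4869, 160, 29), (4889, 46, 29),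
  (5121, 138, 29), (5277, 133, 29), (5381, 9, 29), (5417, 251, 29), (5529, 130, 29), (5545, 99, 29), (5633, 34, 29), (5661, 168, 29),
  (5685, 248, 29), (5813, 241, 29), (5929, 83, 29), (5933, 73, 29), (6021, 184, 29), (6041, 42, 29), (6057, 70, 29), (6061, 68, 29),
  (6173, 128, 29), (6193, 71, 29), (6197, 581, 29), (6273, 14, 29), (6321, 86, 29), (6325, 72, 29), (6425, 134, 29), (6445, 225, 29),
  (6533, 141, 29), (6573, 121, 29), (6705, 107, 29), (6785, 38, 29), (6813, 176, 29), (6833, 115, 29), (6917, 188, 29), (6937, 47, 29),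
  (7169, 10, 29), (7325, 4, 29), (7429, 136, 29), (7465, 123, 29), (7577, 2, 29), (7593, 227, 29), (7681, 35, 29), (7709, 180, 29),
  (7733, 105, 29), (7861, 96, 29), (7977, 87, 29), (7981, 585, 29), (8069, 164, 29), (8089, 43, 29), (8105, 66, 29), (8109, 580, 29),
  (30, 0, 30), (58, 321, 30), (62, 82, 30), (134, 10, 30), (158, 518, 30), (258, 531, 30), (386, 9, 30), (410, 515, 30),
  (546, 115, 30), (550, 346, 30), (674, 73, 30), (678, 90, 30), (1054, 512, 30), (1086, 114, 30), (1158, 522, 30), (1182, 4, 30),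
  (1210, 89, 30), (1306, 517, 30), (1574, 322, 30), (1702, 64, 30), (2054, 528, 30), (2234, 67, 30), (2238, 84, 30), (2330, 7, 30),
  (3078, 14, 30), (3130, 345, 30), (3262, 72, 30), (3330, 13, 30), (3458, 521, 30), (3482, 3, 30), (3618, 83, 30), (3746, 85, 30),
  (4126, 2, 30), (4154, 323, 30), (4158, 86, 30), (4230, 12, 30), (4254, 516, 30), (4354, 523, 30), (4482, 15, 30), (4506, 513, 30),
  (4642, 75, 30), (4646, 344, 30), (4770, 113, 30), (4774, 88, 30), (5150, 514, 30), (5182, 74, 30), (5254, 530, 30), (5278, 6, 30),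
  (5306, 91, 30), (5402, 519, 30), (5670, 320, 30), (5798, 66, 30), (6150, 520, 30), (6330, 65, 30), (6334, 80, 30), (6426, 5, 30),
  (7174, 8, 30), (7226, 347, 30), (7358, 112, 30), (7426, 11, 30), (7554, 529, 30), (7578, 1, 30), (7714, 87, 30), (7842, 81, 30),
  (36, 0, 36), (164, 9, 36), (540, 89, 36), (668, 94, 36), (772, 86, 36), (828, 31, 36), (900, 85, 36), (956, 7, 36),
  (1060, 15, 36), (1188, 19, 36), (1564, 350, 36), (1692, 64, 36), (1796, 77, 36), (1852, 12, 36), (1924, 82, 36), (1980, 59, 36),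
  (2084, 62, 36), (2212, 43, 36), (2588, 88, 36), (2716, 346, 36), (2820, 232, 36), (2876, 27, 36), (2948, 84, 36), (3004, 3, 36),
  (3108, 11, 36), (3236, 23, 36), (3612, 90, 36), (3740, 65, 36), (3844, 76, 36), (3900, 46, 36), (3972, 236, 36), (4028, 5, 36),
  (4132, 58, 36), (4260, 47, 36), (4636, 69, 36), (4764, 66, 36), (4868, 74, 36), (4924, 18, 36), (4996, 73, 36), (5052, 10, 36),
  (5156, 2, 36), (5284, 30, 36), (5660, 322, 36), (5788, 92, 36), (5892, 81, 36), (5948, 42, 36), (6020, 78, 36), (6076, 1, 36),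
  (6180, 4, 36), (6308, 13, 36), (6684, 68, 36), (6812, 326, 36), (6916, 104, 36), (6972, 22, 36), (7044, 72, 36), (7100, 14, 36),
  (7204, 6, 36), (7332, 26, 36), (7708, 70, 36), (7836, 93, 36), (7940, 80, 36), (7996, 8, 36), (8068, 108, 36), (8124, 63, 36)]

def ro : List (ℕ × List ℕ × List ℕ) :=
  [(0, [2, 12, 90, 2, 12, 82, 75, 68, 86, 78, 78, 92, 84, 84, 93, 90, 101, 98, 102], [10, 94, 12, 81, 82, 68, 79, 85, 78, 78, 89, 87, 90, 96]),
  (29, [92, 12, 75, 72, 12, 97, 69, 80, 89, 78, 86, 88, 90, 101], [90, 79, 12, 79, 98, 71, 90, 80, 87, 89, 92, 100, 98]),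
  (30, [83, 94, 12, 88, 68, 79, 89, 78, 86, 88, 93, 90, 96, 101], [71, 79, 12, 84, 69, 78, 86, 83, 88, 92, 90, 98]),
  (36, [93, 69, 12, 93, 87, 70, 90, 80, 95, 86, 92, 90, 96], [74, 102, 72, 12, 92, 69, 87, 87, 78, 87, 85, 91, 98])]

theorem ro_ok : allL ro (fun e => and' (inC (14 :: nfW 2 sT e.1) e.2.1)
    (and' (inK K0 e.2.2) (cj e.2.2 [6] (appendR e.2.1 e.2.1)))) = true := by decide +kernel

theorem lo_ok : allL lo (fun e => and' (anyL ro fun f => Nat.beq f.1 e.2.2)
    (cj (nfW 2 sT e.2.1) (14 :: nfW 2 sT e.2.2) (14 :: nfW 2 sT e.1))) = true := by decide +kernel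

/-- `σ t` is not an involution, or `k` is listed -/
noncomputable def ko (k : ℕ) : Bool :=
  or' (nq (powW (14 :: nfW 2 sT k) 2) []) (anyL lo fun e => Nat.beq e.1 k)

theorem ko_0 : AllIn (fun k => ko k = true) 0 1024 :=
  allIn_of_allFrom (a := 0) (n := 1024) (by decide +kernel)

theorem ko_1 : AllIn (fun k => ko k = true) 1024 2048 :=
  allIn_of_allFrom (a := 1024) (n := 1024) (by decide +kernel)

theorem ko_2 : AllIn (fun k => ko k = true) 2048 3072 :=
  allIn_of_allFrom (a := 2048) (n := 1024) (by decide +kernel)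

theorem ko_3 : AllIn (fun k => ko k = true) 3072 4096 :=
  allIn_of_allFrom (a := 3072) (n := 1024) (by decide +kernel)

theorem ko_4 : AllIn (fun k => ko k = true) 4096 5120 :=
  allIn_of_allFrom (a := 4096) (n := 1024) (by decide +kernel)

theorem ko_5 : AllIn (fun k => ko k = true) 5120 6144 :=
  allIn_of_allFrom (a := 5120) (n := 1024) (by decide +kernel)

theorem ko_6 : AllIn (fun k => ko k = true) 6144 7168 :=
  allIn_of_allFrom (a := 6144) (n := 1024) (by decide +kernel)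

theorem ko_7 : AllIn (fun k => ko k = true) 7168 8192 :=
  allIn_of_allFrom (a := 7168) (n := 1024) (by decide +kernel)

theorem ko_all : AllIn (fun k => ko k = true) 0 8192 :=
  (((((((ko_0.trans ko_1).trans ko_2).trans ko_3).trans ko_4).trans ko_5).trans ko_6).trans ko_7)

end Cfsg.Agent.EvS
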